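import Groth.Agent.L05.Models.IndexMult
import Groth.Agent.L22.Inter.PullNum
import Groth.Agent.L03.ShStab.Trunc
import Groth.Agent.L26.Pic0.EulerDev
import Mathlib.Algebra.Group.ForwardDiff

/-!
# Euler characteristics modulo the index subgroup

Generic ranks determine Euler characteristics modulo those of sheaves with smaller support, and a
projective generically finite cover multiplies the Euler characteristic of the structure sheaf by its
degree modulo the same.
-/

set_option autoImplicit false
set_option linter.style.haveILetI false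
set_option linter.unusedSectionVars false
set_option backward.isDefEq.respectTransparency false

universe u

open CategoryTheory CategoryTheory.Limits AlgebraicGeometry TopologicalSpace
open scoped fwdDiff

noncomputable section

namespace Groth.L05.EulerIndex

open Groth.L16.CohSupport (len len_add len_congr len_eq_zero_iff len_ne_top)
open Groth.L03.Euler

/-- The integers some multiple of which, by a factor prime to `ℓ`, lies in `H`. -/
def Loc (ℓ : ℕ) (hℓ : ℓ.Prime) (H : AddSubgroup ℤ) : AddSubgroup ℤ where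
  carrier := {z | ∃ c : ℕ, ¬ ℓ ∣ c ∧ (c : ℤ) * z ∈ H}
  zero_mem' := ⟨1, hℓ.not_dvd_one, by simp⟩
  add_mem' := by
    rintro a b ⟨c, hc, hca⟩ ⟨d, hd, hdb⟩
    refine ⟨c * d, hℓ.not_dvd_mul hc hd, ?_⟩
    rw [show ((c * d : ℕ) : ℤ) * (a + b) = (d : ℤ) • ((c : ℤ) * a) + (c : ℤ) • ((d : ℤ) * b) by
      simp only [smul_eq_mul]; push_cast; ring]
    exact add_mem (AddSubgroup.zsmul_mem _ hca _) (AddSubgroup.zsmul_mem _ hdb _)
  neg_mem' := by
    rintro a ⟨c, hc, hca⟩
    exact ⟨c, hc, by rw [mul_neg]; exact neg_mem hca⟩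

theorem Loc.mono {ℓ : ℕ} (hℓ : ℓ.Prime) {H H' : AddSubgroup ℤ} (h : H ≤ H') : Loc ℓ hℓ H ≤ Loc ℓ hℓ H' :=
  fun _ ⟨c, hc, hca⟩ => ⟨c, hc, h hca⟩

theorem Loc.le {ℓ : ℕ} (hℓ : ℓ.Prime) (H : AddSubgroup ℤ) : H ≤ Loc ℓ hℓ H :=
  fun a ha => ⟨1, hℓ.not_dvd_one, by simpa using ha⟩

theorem Loc.mem_of_mul_mem {ℓ : ℕ} (hℓ : ℓ.Prime) {H : AddSubgroup ℤ} {d : ℕ} (hd : ¬ ℓ ∣ d) {z : ℤ}
    (h : (d : ℤ) * z ∈ Loc ℓ hℓ H) : z ∈ Loc ℓ hℓ H := by
  obtain ⟨c, hc, hcz⟩ := h
  exact ⟨c * d, hℓ.not_dvd_mul hc hd, by rwa [Nat.cast_mul, mul_assoc]⟩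

section Field

variable (K : Type u) [Field K]

theorem exists_point_degree {X : Scheme.{u}} (f : X ⟶ Spec (CommRingCat.of K)) [LocallyOfFiniteType f]
    {x : X} (hx : IsClosed ({x} : Set X)) :
    ∃ (L : Type u) (_ : Field L) (_ : Algebra K L) (_ : Module.Finite K L)
      (u : Spec (CommRingCat.of L) ⟶ X), u ≫ f = Spec.map (CommRingCat.ofHom (algebraMap K L)) ∧
      Module.finrank K L = f.residueDegree x := by
  let Y := Spec (CommRingCat.of K)
  let χ : CommRingCat.of K ⟶ Y.residueField (f x) := Spec.preimage (Y.fromSpecResidueField (f x))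
  have hχ : Function.Bijective χ.hom := by
    haveI : Subsingleton ↥(Spec (CommRingCat.of K)) := inferInstanceAs (Subsingleton (PrimeSpectrum K))
    obtain ⟨⟨pt, ψ₀⟩, hψ₀⟩ := (Scheme.SpecToEquivOfField K Y).symm.surjective (𝟙 _)
    change Spec.map ψ₀ ≫ Y.fromSpecResidueField pt = 𝟙 _ at hψ₀
    obtain rfl : pt = f x := @Subsingleton.elim _ ‹_› _ _
    have hcomp : χ ≫ ψ₀ = 𝟙 _ := by
      apply Spec.map_injective
      rw [Spec.map_comp, Spec.map_preimage, hψ₀, Spec.map_id]
    exact ⟨RingHom.injective _, fun z => ⟨ψ₀.hom z, ψ₀.hom.injective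
      (congrArg (fun g => g.hom (ψ₀.hom z)) hcomp)⟩⟩
  let j : CommRingCat.of K ⟶ X.residueField x := χ ≫ f.residueFieldMap x
  have hj : Spec.map j = X.fromSpecResidueField x ≫ f := by
    rw [Spec.map_comp, Spec.map_preimage]
    exact Scheme.Hom.SpecMap_residueFieldMap_fromSpecResidueField f x
  letI : Algebra K (X.residueField x) := j.hom.toAlgebra
  haveI : JacobsonSpace X := LocallyOfFiniteType.jacobsonSpace f
  have hlft : LocallyOfFiniteType (Spec.map j) := by
    rw [hj]
    haveI := (isClosed_singleton_iff_locallyOfFiniteType (X := X) (x := x)).1 hx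
    infer_instance
  haveI : Module.Finite K (X.residueField x) := by
    haveI : Algebra.FiniteType K (X.residueField x) := by
      rw [← RingHom.finiteType_algebraMap]
      exact (HasRingHomProperty.Spec_iff (P := @LocallyOfFiniteType)).1 hlft
    exact finite_of_finite_type_of_isJacobsonRing K (X.residueField x)
  refine ⟨X.residueField x, inferInstance, inferInstance, inferInstance, X.fromSpecResidueField x, hj.symm, ?_⟩
  letI := (f.residueFieldMap x).hom.toAlgebra
  exact Algebra.finrank_eq_of_equiv_equiv (RingEquiv.ofBijective _ hχ) (RingEquiv.refl _)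
    (RingHom.ext fun c => rfl)

/-- Index subgroups are monotone. -/
theorem indexSubgroup_le {W X : Scheme.{u}} (fW : W ⟶ Spec (CommRingCat.of K)) (f : X ⟶ Spec (CommRingCat.of K))
    [LocallyOfFiniteType fW] [LocallyOfFiniteType f] (h : W ⟶ X) (hh : h ≫ f = fW) :
    Curv2.indexSubgroup fW ≤ Curv2.indexSubgroup f := by
  rw [Curv2.indexSubgroup, AddSubgroup.closure_le]
  rintro _ ⟨w, hw, rfl⟩
  obtain ⟨L, _, _, _, u, hu, hdeg⟩ := exists_point_degree K fW hw
  show (fW.residueDegree w : ℤ) ∈ Curv2.indexSubgroup f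
  rw [← hdeg]
  exact Groth.L05.Models.Index.finrank_mem_indexSubgroup f (u ≫ h) (by rw [Category.assoc, hh, hu])

end Field

/-- A polynomial sequence eventually congruent to a constant is congruent to it everywhere. -/
theorem sub_mem_of_eventually (G : AddSubgroup ℤ) : ∀ (D : ℕ) (e : ℕ → ℤ) (c : ℤ) (N : ℕ),
    (fwdDiff (1 : ℕ))^[D] e = 0 → (∀ n, N ≤ n → e n - c ∈ G) → ∀ n, e n - c ∈ G
  | 0, e, c, N, he, h, n => by
    have h0 : ∀ m, e m = 0 := fun m => congrFun he m
    have := h N le_rfl
    rwa [h0] at this ⊢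
  | D + 1, e, c, N, he, h, n => by
    rw [Function.iterate_succ_apply] at he
    have hd := sub_mem_of_eventually G D (fwdDiff (1 : ℕ) e) 0 N he (fun m hm => by
      rw [sub_zero, fwdDiff]
      simpa using sub_mem (h (m + 1) (by omega)) (h m hm))
    have hstep : ∀ i, e (n + i) - c ∈ G → e n - c ∈ G := fun i => by
      induction i with
      | zero => simp
      | succ i ih =>
        intro hi
        refine ih ?_
        have := hd (n + i)
        rw [sub_zero, fwdDiff] at this
        convert sub_mem hi this using 1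
        rw [show n + (i + 1) = n + i + 1 by omega]
        ring
    exact hstep N (h _ (by omega))

theorem fwdDiff_eq_zero_of_polynomial {e : ℕ → ℤ} (P : Polynomial ℚ) {D : ℕ} (hP : P.natDegree < D)
    (h : ∀ n, (e n : ℚ) = P.eval (n : ℚ)) : (fwdDiff (1 : ℕ))^[D] e = 0 := by
  funext y
  have h0 := congrFun (Polynomial.fwdDiff_iter_eq_zero_of_degree_lt hP) (y : ℚ)
  rw [fwdDiff_iter_eq_sum_shift, Pi.zero_apply] at h0
  have h1 : (((fwdDiff (1 : ℕ))^[D] e y : ℤ) : ℚ) = 0 := by
    rw [fwdDiff_iter_eq_sum_shift, ← h0, Int.cast_sum]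
    refine Finset.sum_congr rfl fun i _ => ?_
    simp only [smul_eq_mul, Int.cast_mul, zsmul_eq_mul, mul_one, nsmul_eq_mul, Nat.cast_id]
    rw [h]
    push_cast
    ring
  exact_mod_cast h1

variable (k : Type u) [Field k] {Z : Scheme.{u}} [Z.Over (Spec (CommRingCat.of k))]
  [IsProper (Z ↘ Spec (CommRingCat.of k))] [IsIntegral Z] (G : AddSubgroup ℤ)

/-- Sheaves supported on a proper closed subset have Euler characteristic in `G`. -/
def Small : Prop :=
  ∀ F : Z.Modules, Coh.IsCoh F → CohB1.support F ≠ Set.univ → Curv2.euler k Z F ∈ G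

variable {G}

/-- Euler characteristics are determined by the generic rank, modulo `G`. -/
theorem euler_sub_rank_mem (hG : Small k (Z := Z) G) {F : Z.Modules} (hF : Coh.IsCoh F) :
    Curv2.euler k Z F - ((len (genericPoint Z) F).toNat : ℤ) * Curv2.euler k Z (Coh.structureModule Z) ∈ G := by
  haveI := Groth.L21.RR.isNoetherian_of_proper (X := Z) k
  set η := genericPoint Z
  let P : Z.Modules → Prop := fun M =>
    Curv2.euler k Z M - ((len η M).toNat : ℤ) * Curv2.euler k Z (Coh.structureModule Z) ∈ G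
  refine Groth.L16.Devissage.devissage P isClosed_univ ?_ ?_ ?_ ?_ hF (Set.subset_univ _)
  · rintro A B ⟨e⟩ hA
    simp only [P] at hA ⊢
    rwa [← euler_iso e, ← len_congr e η]
  · intro A hA
    simp only [P]
    rw [euler_of_isZero (k := k) hA, (len_eq_zero_iff η A).2 (by
      rw [(Groth.L21.Mod.isZero_iff_support_eq_empty A).1 hA]; simp)]
    simp
  · intro S hS c₁ c₂ c₃ _
    have hfin : ∀ {M : Z.Modules}, Coh.IsCoh M → len η M ≠ ⊤ := fun hM =>
      len_ne_top hM fun z _ hz => (hz.antisymm (genericPoint_specializes z)).eq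
    have hl : ((len η S.X₂).toNat : ℤ) = (len η S.X₁).toNat + (len η S.X₃).toNat := by
      rw [len_add hS, ENat.toNat_add (hfin c₁) (hfin c₃), Nat.cast_add]
    have e := euler_add (k := k) hS c₁ c₂ c₃
    simp only [P]
    rw [e, hl]
    set a := Curv2.euler k Z (Coh.structureModule Z)
    refine ⟨fun h1 h2 => ?_, fun h1 h3 => ?_, fun h2 h3 => ?_⟩
    · convert sub_mem h2 h1 using 1; ring
    · convert add_mem h1 h3 using 1; ring
    · convert sub_mem h2 h3 using 1; ring
  · intro y _
    by_cases hy : y = η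
    · subst hy
      refine ⟨Coh.structureModule Z, Groth.L16.CohClosedPush.isCoh_structure, ?_, ?_, ?_⟩
      · simp only [P]
        rw [Groth.L22.Inter.len_structure]
        simp
      · rw [show closure ({η} : Set Z) = Set.univ from genericPoint_spec Z]; exact Set.subset_univ _
      · exact Groth.L22.Inter.len_structure
    · obtain ⟨Y, i, hi, hY, hgen, hrange⟩ := Groth.L16.CohClosedPush.exists_integral y
      haveI := hi; haveI := hY
      haveI : IsLocallyNoetherian Y := LocallyOfFiniteType.isLocallyNoetherian i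
      let N := (Coh.push i).obj (Coh.structureModule Y)
      have hN : Coh.IsCoh N := Groth.L16.CohClosedPush.isCoh_push i Groth.L16.CohClosedPush.isCoh_structure
      have hsN : CohB1.support N ⊆ closure {y} :=
        (Groth.L16.CohClosedPush.support_push_subset i _).trans hrange.le
      have hηN : η ∉ CohB1.support N := fun h => hy
        ((specializes_iff_mem_closure.2 (hsN h)).antisymm (genericPoint_specializes y)).eq
      refine ⟨N, hN, ?_, hsN, hgen ▸ Groth.L16.CohClosedPush.len_push_structure i⟩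
      simp only [P]
      rw [(len_eq_zero_iff η N).2 hηN]
      simp only [ENat.toNat_zero, Nat.cast_zero, zero_mul, sub_zero]
      exact hG N hN fun h => hηN (h.symm ▸ Set.mem_univ η)

variable {W : Scheme.{u}} [W.Over (Spec (CommRingCat.of k))]
  [IsProper (W ↘ Spec (CommRingCat.of k))] [IsIntegral W]

/-- A projective generically finite cover multiplies `χ(O)` by its degree, modulo `G`. -/
theorem euler_cover_mem (hG : Small k (Z := Z) G) (h : W ⟶ Z) [IsProper h]
    (hh : h ≫ (Z ↘ Spec (CommRingCat.of k)) = W ↘ Spec (CommRingCat.of k))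
    (hξ : h (genericPoint W) = genericPoint Z) (hd : h.residueDegree (genericPoint W) ≠ 0)
    {N : ℕ} (q : W ⟶ CohB1.ProjSpace N k) [IsAffineHom q] :
    Curv2.euler k W (Coh.structureModule W) -
      (h.residueDegree (genericPoint W) : ℤ) * Curv2.euler k Z (Coh.structureModule Z) ∈ G := by
  haveI := Groth.L21.RR.isNoetherian_of_proper (X := W) k
  haveI := Groth.L21.RR.isNoetherian_of_proper (X := Z) k
  haveI : Z.IsSeparated := ⟨by rw [← terminal.comp_from (Z ↘ Spec (CommRingCat.of k))]; infer_instance⟩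
  haveI := Groth.L17.PushQCoh.hasInjectiveResolutions W
  let A := (Scheme.Modules.pullback q).obj (Groth.L18.PUP.O1 N k)
  have hA : CohB1.IsAmple A :=
    Groth.L18.Ample.isAmple_pullback_of_isAffineHom q (Groth.L22.VeryAmple.isAmple_O1 N k)
  let O' := Coh.structureModule W
  have hO' : Coh.IsCoh O' := Groth.L16.CohClosedPush.isCoh_structure
  obtain ⟨n₁, hn₁⟩ := Groth.L22.Inter.exists_acyclic_twist h hO' hA
  let M : ℕ → W.Modules := fun n => CohB1.tensorMod O' (CohB1.tensorPow A n)
  let e : ℕ → ℤ := fun n => Curv2.euler k W (M n)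
  let c : ℤ := (h.residueDegree (genericPoint W) : ℤ) * Curv2.euler k Z (Coh.structureModule Z)
  have huniq : ∀ w, h w = genericPoint Z → w = genericPoint W := fun w hw =>
    Groth.L19.GenericFinite.eq_genericPoint_of_finite h hξ (by
      letI := (h.residueFieldMap (genericPoint W)).hom.toAlgebra
      exact Module.finite_of_finrank_pos (Nat.pos_of_ne_zero hd)) hw
  have hlarge : ∀ n, n₁ ≤ n → e n - c ∈ G := fun n hn => by
    have hMi : PicF.IsInvertible (M n) := Groth.L18.GenLoc.isInvertible_tensor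
      (Groth.L18.Ample.isInvertible_structureModule W) (Groth.L18.Ample.isInvertible_tensorPow hA.1 _)
    have hMc : Coh.IsCoh (M n) := Groth.L16.ProperFinite.isCoh_of_isInvertible hMi
    haveI : Coh.IsQCoh (M n) := hMc.1
    have hlen1 : len (genericPoint W) (M n) = 1 := by
      obtain ⟨V, s, hV, hs⟩ := Groth.L18.Frame.exists_frame hMi (genericPoint W)
      exact Groth.L22.Inter.len_eq_one_of_bijective _ (Groth.L21.RR.bijective_germ_frame hs hV)
    have hH : Coh.IsCoh ((Coh.push h).obj (M n)) := Groth.L16.Exist.isCoh_pushforward h hMc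
    have hlen := Groth.L22.Inter.len_push_of_len_one h h.isClosedMap hξ huniq hlen1
    have key := euler_sub_rank_mem k hG hH
    rw [Groth.L22.Inter.euler_push_of_acyclic k h hh (M n) (hn₁ n hn),
      show (len (genericPoint Z) ((Coh.push h).obj (M n))).toNat = _ from hlen] at key
    exact key
  obtain ⟨d, hdim⟩ := exists_dim_bound k W
  obtain ⟨P, hP, hP'⟩ := exists_polynomial (twEuler_mem' k (L := fun _ : Fin 1 => A) (fun _ => hA.1) hO' (d := d)
    ((topologicalKrullDim_subspace_le W _).trans hdim))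
  have he : ∀ n, (e n : ℚ) = P.eval (n : ℚ) := fun n => by
    rw [← hP']
    exact congrArg (Int.cast : ℤ → ℚ) (euler_iso
      (Groth.L00.Tensor.tensorIso (Iso.refl _) (Groth.L00.Tensor.tensorUnitLeft (CohB1.tensorPow A n)).symm))
  have h0 := sub_mem_of_eventually G _ e c n₁
    (fwdDiff_eq_zero_of_polynomial P (Nat.lt_succ_of_le hP) he) hlarge 0
  have he0 : e 0 = Curv2.euler k W (Coh.structureModule W) :=
    euler_iso (Groth.L00.Tensor.tensorUnitRight _)
  rwa [he0] at h0

end Groth.L05.EulerIndex
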