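import Groth.Agent.L05.MinModel.Basic
import Groth.Agent.L06.ImmImage
import Groth.Agent.L02.Misc.STD
import Groth.Prelude.Def_CohB1

/-!
# The flat closure of a projective variety over the fraction field
-/

set_option autoImplicit false
set_option linter.style.haveILetI false
set_option backward.isDefEq.respectTransparency false

universe u

open CategoryTheory CategoryTheory.Limits AlgebraicGeometry TopologicalSpace

noncomputable section

namespace Groth.L05.EulerIndex

variable {R : Type u} [CommRing R] [IsDomain R] [IsDiscreteValuationRing R]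

open Groth.L05.MinModel (gen isOpenImmersion_gen)

variable (R) in
/-- The map of projective spaces over the inclusion of the generic point. -/
def projGen (N : ℕ) : CohB1.ProjSpaceOver N (Spec (CommRingCat.of (FractionRing R))) ⟶
    CohB1.ProjSpaceOver N (Spec (CommRingCat.of R)) :=
  pullback.lift (pullback.fst _ _) (CohB1.ProjSpaceOver.toBase N _ ≫ gen R)
    (by rw [pullback.condition, Category.assoc]; exact congrArg _ (specULiftZIsTerminal.hom_ext _ _))

theorem isPullback_projGen (N : ℕ) :
    IsPullback (projGen R N) (CohB1.ProjSpaceOver.toBase N (Spec (CommRingCat.of (FractionRing R))))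
      (CohB1.ProjSpaceOver.toBase N (Spec (CommRingCat.of R))) (gen R) := by
  refine IsPullback.of_right (h₁₂ := pullback.fst _ _) (h₂₂ := specULiftZIsTerminal.from _) ?_
    (pullback.lift_snd _ _ _) (IsPullback.of_hasPullback _ _)
  rw [projGen, pullback.lift_fst, show gen R ≫ specULiftZIsTerminal.from _ =
    specULiftZIsTerminal.from _ from specULiftZIsTerminal.hom_ext _ _]
  exact IsPullback.of_hasPullback _ _

/-- An integral projective scheme over the fraction field is the generic fibre of an integral, proper and
flat scheme over the discrete valuation ring. -/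
theorem exists_flat_closure {W : Scheme.{u}} [IsIntegral W] (f : W ⟶ Spec (CommRingCat.of (FractionRing R)))
    [Flat f] {N : ℕ} (j : W ⟶ CohB1.ProjSpaceOver N (Spec (CommRingCat.of (FractionRing R))))
    [IsClosedImmersion j] (hj : j ≫ CohB1.ProjSpaceOver.toBase N _ = f) :
    ∃ (𝒵 : Scheme.{u}) (q : 𝒵 ⟶ Spec (CommRingCat.of R)) (g : W ⟶ 𝒵),
      IsIntegral 𝒵 ∧ IsProper q ∧ Flat q ∧ IsPullback g f q (gen R) := by
  haveI := isOpenImmersion_gen (R := R)
  let pK := projGen R N
  have hpb := isPullback_projGen (R := R) N
  haveI : IsOpenImmersion pK := MorphismProperty.of_isPullback (P := @IsOpenImmersion) hpb.flip ‹_›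
  haveI hproj : IsProper (CohB1.ProjSpaceOver.toBase N (Spec (CommRingCat.of R))) :=
    MorphismProperty.pullback_snd (P := @IsProper) _ _ inferInstance
  haveI : IsLocallyNoetherian (CohB1.ProjSpaceOver N (Spec (CommRingCat.of R))) :=
    haveI : IsNoetherianRing (CommRingCat.of R) := inferInstanceAs (IsNoetherianRing R)
    LocallyOfFiniteType.isLocallyNoetherian (CohB1.ProjSpaceOver.toBase N (Spec (CommRingCat.of R)))
  haveI : QuasiCompact pK := inferInstance
  let g₀ := j ≫ pK
  haveI : QuasiCompact g₀ := inferInstance
  let g : W ⟶ g₀.image := g₀.toImage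
  let q : g₀.image ⟶ Spec (CommRingCat.of R) := g₀.imageι ≫ CohB1.ProjSpaceOver.toBase N _
  have hgq : g ≫ q = f ≫ gen R := by
    rw [← Category.assoc, g₀.toImage_imageι, Category.assoc, hpb.w, ← Category.assoc, hj]
  haveI : IsSchemeTheoreticallyDominant g := Groth.L06.ImmImage.toImage_ker_eq_bot g₀
  haveI : QuasiCompact g := inferInstanceAs (QuasiCompact g₀.toImage)
  haveI : IsReduced g₀.image := Groth.L06.ImmImage.isReduced_image g₀
  haveI : IrreducibleSpace g₀.image := by
    have hd : DenseRange g := Groth.L06.ImmImage.denseRange_toImage_of_reduced g₀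
    have h : IsIrreducible (Set.univ : Set g₀.image) := by
      rw [← hd.closure_range, ← Set.image_univ]
      exact (IrreducibleSpace.isIrreducible_univ W).image _ g.continuous.continuousOn |>.closure
    exact irreducibleSpace_def _ |>.2 h
  haveI : IsIntegral g₀.image := isIntegral_of_irreducibleSpace_of_isReduced _
  haveI : IsProper q := inferInstanceAs (IsProper (g₀.imageι ≫ _))
  haveI : Flat (g ≫ q) := by rw [hgq]; infer_instance
  have hflat : Flat q := Groth.L02.STD.flat_of_dominant R g q
  refine ⟨g₀.image, q, g, ‹_›, ‹_›, hflat, ?_⟩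
  let g' : W ⟶ pullback q (gen R) := pullback.lift g f hgq
  let c : pullback q (gen R) ⟶ CohB1.ProjSpaceOver N (Spec (CommRingCat.of (FractionRing R))) :=
    hpb.lift (pullback.fst q _ ≫ g₀.imageι) (pullback.snd q _) (by rw [Category.assoc]; exact pullback.condition)
  have hc : g' ≫ c = j := by
    apply hpb.hom_ext
    · rw [Category.assoc, IsPullback.lift_fst, pullback.lift_fst_assoc, g₀.toImage_imageι]
    · rw [Category.assoc, IsPullback.lift_snd, pullback.lift_snd, hj]
  haveI : IsClosedImmersion c := by
    have sq : IsPullback (pullback.fst q (gen R)) c g₀.imageι pK := by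
      refine IsPullback.of_bot (v₂₁ := CohB1.ProjSpaceOver.toBase N _)
        (v₂₂ := CohB1.ProjSpaceOver.toBase N (Spec (CommRingCat.of R))) ?_ (hpb.lift_fst _ _ _).symm hpb
      rw [IsPullback.lift_snd]
      exact IsPullback.of_hasPullback q (gen R)
    exact MorphismProperty.of_isPullback (P := @IsClosedImmersion) sq inferInstance
  haveI : IsClosedImmersion g' := by
    haveI : IsClosedImmersion (g' ≫ c) := by rw [hc]; infer_instance
    exact IsClosedImmersion.of_comp g' c
  haveI : Surjective g' := by
    haveI : IsOpenImmersion (pullback.fst q (gen R)) := MorphismProperty.pullback_fst _ _ ‹_›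
    have hcl : IsClosed (Set.range g') := g'.isClosedEmbedding.isClosed_range
    have hd : DenseRange g := Groth.L06.ImmImage.denseRange_toImage_of_reduced g₀
    refine ⟨fun t => ?_⟩
    have ht : t ∈ closure (Set.range g') := by
      rw [(pullback.fst q (gen R)).isOpenEmbedding.isEmbedding.closure_eq_preimage_closure_image, ← Set.range_comp,
        ← TopCat.coe_comp, ← Scheme.Hom.comp_base, pullback.lift_fst]
      exact hd _
    rwa [hcl.closure_eq] at ht
  haveI : IsReduced (pullback q (gen R)) := by
    haveI : IsOpenImmersion (pullback.fst q (gen R)) := MorphismProperty.pullback_fst _ _ ‹_›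
    exact isReduced_of_isOpenImmersion (pullback.fst q (gen R))
  haveI : IsIso g' := isIso_of_isClosedImmersion_of_surjective g'
  refine IsPullback.of_iso_pullback ⟨hgq⟩ (asIso g') (pullback.lift_fst _ _ _) (pullback.lift_snd _ _ _)

end Groth.L05.EulerIndex
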