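import Mathlib.Data.Nat.Choose.Lucas
import Mathlib.Data.Nat.Choose.Vandermonde
import Mathlib.Data.Nat.Factorization.Basic
import Mathlib.Algebra.MvPolynomial.Funext
import Mathlib.RingTheory.MvPolynomial.Homogeneous
import Mathlib.RingTheory.AdjoinRoot
import Mathlib.GroupTheory.Archimedean
import Mathlib.Algebra.Group.Subgroup.ZPowers.Lemmas
import Mathlib.RingTheory.Polynomial.UniqueFactorization

/-!
# Binomial gcds and binary forms

The subgroup generated by the Hilbert polynomial values of a degree `d` hypersurface in `ℙ^N`, and the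
degree of a form as a sum of degrees of its roots on a line.
-/

set_option autoImplicit false
set_option linter.style.haveILetI false

universe u

noncomputable section

namespace Groth.L05.EulerIndex

/-- `C(d, p ^ b) · p ^ b = d · C(d - 1, p ^ b - 1)`, the last factor being prime to `p`. -/
theorem not_dvd_choose_pred {p : ℕ} (hp : p.Prime) : ∀ (b t : ℕ), 1 ≤ t →
    ¬ p ∣ (p ^ b * t - 1).choose (p ^ b - 1)
  | 0, t, _ => by simpa using hp.not_dvd_one
  | b + 1, t, ht => by
    haveI := Fact.mk hp
    have hp2 := hp.two_le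
    have key : ∀ s : ℕ, 1 ≤ s → (p * s - 1) % p = p - 1 ∧ (p * s - 1) / p = s - 1 := by
      intro s hs
      obtain ⟨s, rfl⟩ : ∃ s', s = s' + 1 := ⟨s - 1, by omega⟩
      have e : p * (s + 1) - 1 = (p - 1) + p * s := by rw [Nat.mul_succ]; omega
      rw [e, Nat.add_mul_mod_self_left, Nat.add_mul_div_left _ _ hp.pos,
        Nat.mod_eq_of_lt (by omega), Nat.div_eq_of_lt (by omega)]
      simp
    obtain ⟨h1, h2⟩ := key (p ^ b * t) (Nat.one_le_iff_ne_zero.2 (by positivity))
    obtain ⟨h3, h4⟩ := key (p ^ b) (Nat.one_le_iff_ne_zero.2 (by positivity))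
    intro hdvd
    have h := Choose.choose_modEq_choose_mod_mul_choose_div_nat (n := p ^ (b + 1) * t - 1) (k := p ^ (b + 1) - 1) (p := p)
    rw [show p ^ (b + 1) * t = p * (p ^ b * t) by ring, show p ^ (b + 1) = p * p ^ b by ring,
      h1, h2, h3, h4, Nat.choose_self, one_mul] at h
    rw [show p ^ (b + 1) * t = p * (p ^ b * t) by ring, show p ^ (b + 1) = p * p ^ b by ring] at hdvd
    exact not_dvd_choose_pred hp b t ht ((Nat.modEq_zero_iff_dvd).1
      (h.symm.trans (Nat.modEq_zero_iff_dvd.2 hdvd)))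

/-- The gcd of `C(d, i)`, `1 ≤ i ≤ N`, divides every `d / δ`, `δ ∣ d`, `δ ≤ N`. -/
theorem dvd_div_of_dvd_choose {d N g δ : ℕ} (hd : 1 ≤ d) (hg : ∀ i, 1 ≤ i → i ≤ N → g ∣ d.choose i)
    (hδ : δ ∣ d) (hδ1 : 1 ≤ δ) (hδN : δ ≤ N) : g ∣ d / δ := by
  have hgd : g ∣ d := by simpa using hg 1 le_rfl (hδ1.trans hδN)
  have hg0 : g ≠ 0 := fun h => by rw [h, zero_dvd_iff] at hgd; omega
  have hdiv0 : d / δ ≠ 0 := (Nat.div_pos (Nat.le_of_dvd hd hδ) hδ1).ne'
  rw [← Nat.factorization_le_iff_dvd hg0 hdiv0, Finsupp.le_def]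
  intro p
  by_cases hp : p.Prime
  · let b := δ.factorization p
    have hqδ : p ^ b ∣ δ := Nat.ordProj_dvd δ p
    have hqd : p ^ b ∣ d := hqδ.trans hδ
    obtain ⟨t, ht⟩ := hqd
    have ht1 : 1 ≤ t := Nat.one_le_iff_ne_zero.2 fun h => by rw [h, mul_zero] at ht; omega
    have hq1 : 1 ≤ p ^ b := Nat.one_le_iff_ne_zero.2 (pow_ne_zero _ hp.ne_zero)
    have hqN : p ^ b ≤ N := (Nat.le_of_dvd hδ1 hqδ).trans hδN
    have hqd' : p ^ b ≤ d := by rw [ht]; exact Nat.le_mul_of_pos_right _ ht1
    have hmul : d * (d - 1).choose (p ^ b - 1) = d.choose (p ^ b) * p ^ b := by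
      have h := Nat.add_one_mul_choose_eq (d - 1) (p ^ b - 1)
      rwa [show d - 1 + 1 = d by omega, show p ^ b - 1 + 1 = p ^ b by omega] at h
    have hnd : ¬ p ∣ (d - 1).choose (p ^ b - 1) := by rw [ht]; exact not_dvd_choose_pred hp b t ht1
    have h0 : (d - 1).choose (p ^ b - 1) ≠ 0 := fun h => hnd (h ▸ dvd_zero p)
    have hC0 : d.choose (p ^ b) ≠ 0 := (Nat.choose_pos hqd').ne'
    have hv := congrArg (fun n => n.factorization p) hmul
    simp only [Nat.factorization_mul (Nat.one_le_iff_ne_zero.1 hd) h0,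
      Nat.factorization_mul hC0 (pow_ne_zero b hp.ne_zero), Finsupp.add_apply,
      Nat.factorization_eq_zero_of_not_dvd hnd, hp.factorization_pow, Finsupp.single_eq_same, add_zero] at hv
    have hle := (Nat.factorization_le_iff_dvd hg0 hC0).2 (hg _ hq1 hqN) p
    rw [Nat.factorization_div hδ, Finsupp.coe_tsub, Pi.sub_apply]
    have hb : b = δ.factorization p := rfl
    omega
  · simp [Nat.factorization_eq_zero_of_not_prime g hp]

/-- A subgroup containing all values of the Hilbert polynomial of a degree `d` hypersurface in `ℙ^N`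
contains the gcd of the `d / δ`. -/
theorem gcd_mem {d N : ℕ} (hd : 1 ≤ d) (G : AddSubgroup ℤ)
    (h : ∀ m, N ≤ m → ((m + d).choose N : ℤ) - m.choose N ∈ G) :
    ((((Finset.Icc 1 N).filter (fun δ => δ ∣ d)).gcd (fun δ => d / δ) : ℕ) : ℤ) ∈ G := by
  have hdiff : ∀ j m, j ≤ N → N ≤ m → ((m + d).choose (N - j) : ℤ) - m.choose (N - j) ∈ G := by
    intro j
    induction j with
    | zero => intro m _ hm; simpa using h m hm
    | succ j ih =>
      intro m hj hm
      have h' := sub_mem (ih (m + 1) (by omega) (by omega)) (ih m (by omega) hm)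
      obtain ⟨i, hi⟩ : ∃ i, N - j = i + 1 := ⟨N - j - 1, by omega⟩
      rw [hi, show m + 1 + d = (m + d) + 1 by omega, Nat.choose_succ_succ', Nat.choose_succ_succ'] at h'
      rw [show N - (j + 1) = i by omega]
      convert h' using 1
      push_cast
      ring
  have hC : ∀ i, 1 ≤ i → i ≤ N → (d.choose i : ℤ) ∈ G := by
    intro i
    induction i using Nat.strong_induction_on with
    | _ i ih =>
      intro h1 hN
      have h' := hdiff (N - i) N (Nat.sub_le _ _) le_rfl
      rw [show N - (N - i) = i by omega] at h'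
      have hv : ((N + d).choose i : ℤ) - N.choose i =
          (∑ l ∈ Finset.Ico 1 i, (N.choose (i - l) : ℤ) * d.choose l) + d.choose i := by
        rw [add_comm N d, Nat.add_choose_eq, Finset.Nat.sum_antidiagonal_eq_sum_range_succ
          (fun a b => d.choose a * N.choose b), Finset.sum_range_succ,
          Finset.range_eq_Ico, Finset.sum_eq_sum_Ico_succ_bot (by omega)]
        simp only [Nat.choose_zero_right, one_mul, mul_one, Nat.sub_self, Nat.sub_zero, zero_add]
        push_cast
        rw [Finset.sum_congr rfl fun l _ => mul_comm (d.choose l : ℤ) (N.choose (i - l) : ℤ)]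
        ring
      rw [hv] at h'
      have hs : (∑ l ∈ Finset.Ico 1 i, (N.choose (i - l) : ℤ) * d.choose l) ∈ G :=
        sum_mem fun l hl => by
          rw [Finset.mem_Ico] at hl
          simpa using AddSubgroup.zsmul_mem _ (ih l hl.2 hl.1 (by omega)) (N.choose (i - l) : ℤ)
      simpa using sub_mem h' hs
  obtain ⟨g, hg⟩ := Int.subgroup_cyclic G
  have hGg : ∀ z : ℤ, z ∈ G ↔ g ∣ z := fun z => by
    rw [hg, ← AddSubgroup.zmultiples_eq_closure, Int.mem_zmultiples_iff]
  rw [hGg, ← Int.natAbs_dvd, Int.natCast_dvd_natCast]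
  refine Finset.dvd_gcd fun δ hδ => ?_
  rw [Finset.mem_filter, Finset.mem_Icc] at hδ
  refine dvd_div_of_dvd_choose (N := N) hd (fun i h1 h2 => ?_) hδ.2 hδ.1.1 hδ.1.2
  exact Int.natCast_dvd_natCast.1 ((Int.natAbs_dvd).2 ((hGg _).1 (hC i h1 h2)))

/-- A prime larger than `N` dividing neither `δ` keeps the quotients divisible. -/
theorem not_dvd_div_gcd {d N q : ℕ} (hd : 1 ≤ d) (hN : 1 ≤ N) (hq : q.Prime) (hqN : N < q) :
    let I := ((Finset.Icc 1 N).filter (fun δ => δ ∣ d)).gcd (fun δ => d / δ)
    I ∣ d ∧ ¬ q ∣ d / I := by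
  intro I
  have h1 : I ∣ d := by
    have := Finset.gcd_dvd (f := fun δ => d / δ) (show 1 ∈ (Finset.Icc 1 N).filter (fun δ => δ ∣ d) by simp [hN])
    simpa using this
  refine ⟨h1, fun hqd => ?_⟩
  have hI0 : I ≠ 0 := fun h => by rw [h, zero_dvd_iff] at h1; omega
  obtain ⟨e, he⟩ := h1
  rw [he, Nat.mul_div_cancel_left _ (Nat.pos_of_ne_zero hI0)] at hqd
  have hdvd : I * q ∣ I := Finset.dvd_gcd fun δ hδ => by
    obtain ⟨a, ha⟩ : I ∣ d / δ := Finset.gcd_dvd hδ
    rw [Finset.mem_filter, Finset.mem_Icc] at hδ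
    have hda : d = I * a * δ := by rw [← ha, Nat.div_mul_cancel hδ.2]
    have hea : e = a * δ := by
      rw [he, mul_assoc] at hda
      exact Nat.eq_of_mul_eq_mul_left (Nat.pos_of_ne_zero hI0) hda
    rw [hea] at hqd
    rw [ha]
    refine Nat.mul_dvd_mul_left I ((hq.dvd_mul.1 hqd).resolve_right fun h => ?_)
    have := Nat.le_of_dvd hδ.1.1 h
    omega
  have h2 := Nat.le_of_dvd (Nat.pos_of_ne_zero hI0) hdvd
  have h3 := hq.two_le
  have h4 : I * 2 ≤ I * q := Nat.mul_le_mul_left I h3
  omega

/-- The subgroup generated by the degrees of the fields over which a form has a nontrivial zero. -/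
def zeroDegrees {K : Type u} [Field K] {σ : Type} (F : MvPolynomial σ K) : AddSubgroup ℤ :=
  AddSubgroup.closure {m : ℤ | ∃ (L : Type u) (_ : Field L) (_ : Algebra K L),
    FiniteDimensional K L ∧ m = (Module.finrank K L : ℤ) ∧ ∃ x : σ → L, x ≠ 0 ∧ MvPolynomial.aeval x F = 0}

open Polynomial in
/-- The degree of a form is a combination of the degrees of the points on a line in its zero locus. -/
theorem degree_mem_zeroDegrees {K : Type u} [Field K] [Infinite K] {N d : ℕ} (hd : 1 ≤ d) (hN : 1 ≤ N)
    {F : MvPolynomial (Fin (N + 1)) K} (hF : F.IsHomogeneous d) (hF0 : F ≠ 0) :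
    (d : ℤ) ∈ zeroDegrees F := by
  classical
  obtain ⟨a, ha⟩ : ∃ a, MvPolynomial.eval a F ≠ 0 := by
    by_contra hall
    push Not at hall
    exact hF0 (MvPolynomial.funext fun x => by rw [hall x, map_zero])
  obtain ⟨j₀, hj₀⟩ : ∃ j, a j ≠ 0 := by
    by_contra hall
    push Not at hall
    refine ha ?_
    rw [show a = 0 from funext hall, MvPolynomial.eval_zero, MvPolynomial.constantCoeff_eq]
    exact hF.coeff_eq_zero (by simp; omega)
  obtain ⟨j₁, hj₁⟩ : ∃ j : Fin (N + 1), j ≠ j₀ := by
    haveI : Nontrivial (Fin (N + 1)) := Fin.nontrivial_iff_two_le.2 (by omega)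
    exact exists_ne j₀
  let line : Fin (N + 1) → K[X] := fun j => C (a j) * X + C (if j = j₁ then 1 else 0)
  have hline : ∀ j, (line j).natDegree ≤ 1 := fun j => natDegree_linear_le
  let g : K[X] := MvPolynomial.aeval line F
  have hdeg : g.natDegree ≤ d ∧ g.coeff d = MvPolynomial.eval a F := by
    constructor
    · refine (natDegree_sum_le_of_forall_le (n := d) _ _ fun m hm => ?_)
      refine (natDegree_mul_le).trans ?_
      rw [Polynomial.algebraMap_eq, natDegree_C, zero_add]
      refine (natDegree_prod_le _ _).trans ?_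
      have hdm : m.degree = d := by
        rw [Finsupp.degree_eq_weight_one]; exact hF (MvPolynomial.mem_support_iff.1 hm)
      rw [← hdm, Finsupp.degree_apply]
      refine Finset.sum_le_sum fun j _ => ?_
      exact (natDegree_pow_le).trans (by simpa using Nat.mul_le_mul_left (m j) (hline j))
    · rw [show g = ∑ m ∈ F.support, algebraMap K K[X] (MvPolynomial.coeff m F) * ∏ j ∈ m.support, line j ^ m j
        from rfl, finset_sum_coeff, MvPolynomial.eval_eq]
      refine Finset.sum_congr rfl fun m hm => ?_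
      have hdm : m.degree = d := by
        rw [Finsupp.degree_eq_weight_one]; exact hF (MvPolynomial.mem_support_iff.1 hm)
      rw [Polynomial.algebraMap_eq, coeff_C_mul]
      congr 1
      have key : ∀ s : Finset (Fin (N + 1)), (∏ j ∈ s, line j ^ m j).coeff (∑ j ∈ s, m j) = ∏ j ∈ s, a j ^ m j := by
        intro s
        induction s using Finset.induction_on with
        | empty => simp
        | insert j s hj ih =>
          rw [Finset.prod_insert hj, Finset.sum_insert hj, Finset.prod_insert hj,
            coeff_mul_add_eq_of_natDegree_le ?_ ?_, ih]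
          · congr 1
            have := coeff_pow_of_natDegree_le (m := m j) (hline j)
            rw [mul_one] at this
            rw [this]
            by_cases h : j = j₁ <;> simp [line, h, Polynomial.coeff_one]
          · exact natDegree_pow_le.trans (by simpa using Nat.mul_le_mul_left (m j) (hline j))
          · refine (natDegree_prod_le _ _).trans (Finset.sum_le_sum fun i _ => ?_)
            exact natDegree_pow_le.trans (by simpa using Nat.mul_le_mul_left (m i) (hline i))
      rw [← hdm, Finsupp.degree_apply]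
      exact key _
  have hg0 : g ≠ 0 := fun h => ha (by rw [← hdeg.2, h, coeff_zero])
  have hgd : g.natDegree = d := natDegree_eq_of_le_of_coeff_ne_zero hdeg.1 (hdeg.2.trans_ne ha)
  have hfac : ∀ P : K[X], Irreducible P → P ∣ g → (P.natDegree : ℤ) ∈ zeroDegrees F := by
    intro P hP hPg
    haveI := Fact.mk hP
    refine AddSubgroup.subset_closure ⟨AdjoinRoot P, inferInstance, inferInstance,
      (AdjoinRoot.powerBasis hP.ne_zero).finite, ?_, ?_⟩
    · rw [(AdjoinRoot.powerBasis hP.ne_zero).finrank, AdjoinRoot.powerBasis_dim]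
    let t := AdjoinRoot.root P
    refine ⟨fun j => aeval t (line j), fun hx => ?_, ?_⟩
    · have h0 := congrFun hx j₀
      have h1 := congrFun hx j₁
      simp only [line, map_add, map_mul, aeval_C, aeval_X, Pi.zero_apply, if_neg (Ne.symm hj₁),
        if_pos rfl, map_zero, add_zero, map_one] at h0 h1
      have ht : t = 0 := (mul_eq_zero.1 h0).resolve_left fun h => hj₀
        ((algebraMap K (AdjoinRoot P)).injective (h.trans (map_zero _).symm))
      rw [ht, mul_zero, zero_add] at h1
      exact one_ne_zero h1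
    · obtain ⟨c, hc⟩ := hPg
      rw [show MvPolynomial.aeval (fun j => aeval t (line j)) F = aeval t g from
        (MvPolynomial.comp_aeval_apply line (aeval t) F).symm, hc, map_mul,
        AdjoinRoot.aeval_eq, AdjoinRoot.mk_self, zero_mul]
  have key : ∀ f : K[X], f ≠ 0 → (∀ P : K[X], Irreducible P → P ∣ f → (P.natDegree : ℤ) ∈ zeroDegrees F) →
      (f.natDegree : ℤ) ∈ zeroDegrees F := by
    intro f
    induction f using UniqueFactorizationMonoid.induction_on_prime with
    | h₁ => intro h; exact absurd rfl h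
    | h₂ f hf => intro _ _; rw [natDegree_eq_zero_of_isUnit hf, Nat.cast_zero]; exact zero_mem _
    | h₃ f P hf hP ih =>
      intro _ hall
      rw [natDegree_mul hP.ne_zero hf, Nat.cast_add]
      exact add_mem (hall P hP.irreducible (dvd_mul_right P f))
        (ih hf fun Q hQ hQf => hall Q hQ (hQf.mul_left P))
  rw [← hgd]
  exact key g hg0 hfac

end Groth.L05.EulerIndex
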