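import Groth.Agent.L05.EulerIndex.Main
import Groth.Agent.L05.EulerIndex.HypArith
import Groth.Agent.L21.PlaneCurve.HypSub
import Groth.Agent.L21.PlaneCurve.HypIdeal
import Groth.Agent.L21.PlaneCurve.SmoothHyp

/-!
# Hypersurfaces: Euler characteristics of twists and coordinates of points
-/

set_option autoImplicit false
set_option linter.style.haveILetI false
set_option linter.unusedSectionVars false
set_option backward.isDefEq.respectTransparency false

universe u

open CategoryTheory CategoryTheory.Limits AlgebraicGeometry TopologicalSpace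

noncomputable section

namespace Groth.L05.EulerIndex

open Groth.L03.Euler
open Groth.L21.PlaneCurve (OX OC)
open Groth.L21.RR (h)

variable (k : Type u) [Field k]

theorem euler_twist_of_nonneg {N : ℕ} (hN : 1 ≤ N) (j : ℕ) :
    Curv2.euler k (CohB1.ProjSpace N k) (Twist.twistProjSpace N k (j : ℤ)) = ((j + N).choose N : ℤ) := by
  haveI := Groth.L21.PlaneCurve.properProj k N
  have hv : ∀ n, N + 1 ≤ n → Subsingleton (Coh.HH (CohB1.ProjSpace N k) (Twist.twistProjSpace N k (j : ℤ)) n) :=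
    fun n hn => Groth.L21.PlaneCurve.h_mid_twist k N (by omega) (by omega) _
  rw [euler_eq_sum (k := k) hv, Finset.sum_eq_single_of_mem 0 (by simp)]
  · rw [pow_zero, one_mul]
    have := Groth.L21.PlaneCurve.h_zero_twist k N hN (j : ℤ)
    rw [show ((j : ℤ) + N).toNat = j + N by omega] at this
    exact_mod_cast this
  · intro n hn hne
    rw [Finset.mem_range] at hn
    have h0 : Module.finrank k (Coh.HH (CohB1.ProjSpace N k) (Twist.twistProjSpace N k (j : ℤ)) n) = 0 := by
      by_cases hnN : n = N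
      · subst hnN
        have := Groth.L21.PlaneCurve.h_top_twist k n hN (j : ℤ)
        rw [Nat.choose_eq_zero_of_lt (by omega)] at this
        exact this
      · haveI := Groth.L21.PlaneCurve.h_mid_twist k N hne hnN (j : ℤ)
        exact finrank_eq_zero_of_subsingleton
    simp [h0]

/-- The Euler characteristic of the twists of the structure sheaf of a hypersurface. -/
theorem euler_hyp {N d : ℕ} (hN : 1 ≤ N) {G : LefPen.Form N k d} (hG : G ≠ 0)
    [(LefPen.hypIdeal G).subscheme.Over (Spec (CommRingCat.of k))]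
    (hinst : (LefPen.hypIdeal G).subscheme ↘ Spec (CommRingCat.of k) =
      (LefPen.hypIdeal G).subschemeι ≫ CohB1.ProjSpace.toSpec N k) (j : ℕ) :
    Curv2.euler k (LefPen.hypIdeal G).subscheme (OC (LefPen.hypIdeal G) ((j + d : ℕ) : ℤ)) =
      ((j + d + N).choose N : ℤ) - ((j + N).choose N : ℤ) := by
  haveI := Groth.L21.PlaneCurve.properProj k N
  haveI := Groth.L21.RR.isNoetherian_of_proper (X := CohB1.ProjSpace N k) k
  haveI : (CohB1.ProjSpace N k).IsSeparated := by
    refine ⟨?_⟩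
    rw [← terminal.comp_from (CohB1.ProjSpace.toSpec N k)]
    infer_instance
  obtain ⟨f, g, w, hS⟩ := Groth.L21.PlaneCurve.exists_ses (LefPen.hypIdeal G) (Groth.L21.PlaneCurve.nonempty_idealMod_iso hG)
    ((j + d : ℕ) : ℤ)
  have hOX : Coh.IsCoh (OX (LefPen.hypIdeal G) ((j + d : ℕ) : ℤ)) :=
    isCoh_tensor (Groth.L16.ProjTwist.isInvertible_twistProjSpace N k _) (Groth.L21.RR.isCoh_quotMod (LefPen.hypIdeal G))
  have hadd := euler_add (k := k) hS (Groth.L21.PlaneCurve.isCoh_twist k N _)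
    (Groth.L21.PlaneCurve.isCoh_twist k N _) hOX
  obtain ⟨e⟩ := Groth.L21.PlaneCurve.nonempty_OX_iso (LefPen.hypIdeal G) ((j + d : ℕ) : ℤ)
  have hpush : Curv2.euler k (LefPen.hypIdeal G).subscheme (OC (LefPen.hypIdeal G) ((j + d : ℕ) : ℤ)) =
      Curv2.euler k (CohB1.ProjSpace N k) (OX (LefPen.hypIdeal G) ((j + d : ℕ) : ℤ)) := by
    rw [euler_iso (k := k) e]
    exact (euler_push (LefPen.hypIdeal G).subschemeι _ (Groth.L21.PlaneCurve.isQCoh_OC (LefPen.hypIdeal G) _) hinst.symm).symm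
  change Curv2.euler k (CohB1.ProjSpace N k) (Twist.twistProjSpace N k ((j + d : ℕ) : ℤ)) =
    Curv2.euler k (CohB1.ProjSpace N k) (Twist.twistProjSpace N k (((j + d : ℕ) : ℤ) - d)) +
      Curv2.euler k (CohB1.ProjSpace N k) (OX (LefPen.hypIdeal G) ((j + d : ℕ) : ℤ)) at hadd
  rw [show (((j + d : ℕ) : ℤ) - d) = (j : ℤ) by push_cast; ring, euler_twist_of_nonneg k hN,
    euler_twist_of_nonneg k hN] at hadd
  linarith

/-- A point of a hypersurface with values in a field has coordinates which are a zero of the form. -/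
theorem exists_zero_of_point {N d : ℕ} (G : LefPen.Form N k d) {L : Type u} [Field L] [Algebra k L]
    (u : Spec (CommRingCat.of L) ⟶ (LefPen.hypIdeal G).subscheme)
    (hu : u ≫ (LefPen.hypIdeal G).subschemeι ≫ CohB1.ProjSpace.toSpec N k =
      Spec.map (CommRingCat.ofHom (algebraMap k L))) :
    ∃ x : Fin (N + 1) → L, x ≠ 0 ∧ MvPolynomial.aeval x G.1 = 0 := by
  let I := LefPen.hypIdeal G
  let v := u ≫ I.subschemeι
  let pt : Spec (CommRingCat.of L) := IsLocalRing.closedPoint L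
  obtain ⟨i, hi⟩ := Groth.L21.PlaneCurve.exists_mem_chart (v pt)
  have hrange : Set.range v ⊆ Set.range (Groth.L16.ProjSpace.chart N k i) := by
    rintro _ ⟨z, rfl⟩
    haveI : Subsingleton (Spec (CommRingCat.of L)) := inferInstanceAs (Subsingleton (PrimeSpectrum L))
    rw [Subsingleton.elim z pt]
    exact (Groth.L16.ProjSpace.opensRange_chart N k i).ge hi
  let w := IsOpenImmersion.lift (Groth.L16.ProjSpace.chart N k i) v hrange
  have hw : w ≫ Groth.L16.ProjSpace.chart N k i = v := IsOpenImmersion.lift_fac _ _ _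
  let θ := (Spec.preimage w)
  have hθ : Spec.map θ = w := Spec.map_preimage w
  have hC : ∀ c : k, θ.hom (MvPolynomial.C c) = algebraMap k L c := by
    have h1 : CommRingCat.ofHom (MvPolynomial.C : k →+* MvPolynomial (Groth.L16.ProjSpace.ChartVar N i) k) ≫ θ =
        CommRingCat.ofHom (algebraMap k L) := by
      apply Spec.map_injective
      rw [Spec.map_comp, hθ, ← Groth.L16.ProjSpace.chart_toSpec, ← Category.assoc, hw, Category.assoc]
      exact hu
    exact fun c => congrArg (fun g => g.hom c) h1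
  let Θ : MvPolynomial (Groth.L16.ProjSpace.ChartVar N i) k →ₐ[k] L := { θ.hom with commutes' := hC }
  let x : Fin (N + 1) → L := fun j => Θ (Groth.L16.ProjSpace.dehom N k i (MvPolynomial.X j))
  refine ⟨x, fun h0 => ?_, ?_⟩
  · have h1 := congrFun h0 i
    simp [x] at h1
  · have hcomp : MvPolynomial.aeval x = Θ.comp (Groth.L16.ProjSpace.dehom N k i) :=
      MvPolynomial.algHom_ext fun j => by simp [x]
    rw [hcomp, AlgHom.comp_apply]
    show θ.hom (Groth.L16.ProjSpace.dehom N k i G.1) = 0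
    have hW : ⊤ ≤ Groth.L16.ProjSpace.chart N k i ⁻¹ᵁ LefPen.chart N k i := fun z _ =>
      (Groth.L16.ProjSpace.opensRange_chart N k i).le ⟨z, rfl⟩
    have hwle : ⊤ ≤ v ⁻¹ᵁ LefPen.chart N k i := by
      rw [← hw]; exact fun z _ => hW (x := w z) trivial
    have hzero : v.appLE (LefPen.chart N k i) ⊤ hwle (LefPen.dehom G i) = 0 := by
      have hk0 : I.subschemeι.app (LefPen.chart N k i) (LefPen.dehom G i) = 0 := by
        rw [← RingHom.mem_ker,
          I.ker_subschemeι_app ⟨_, Groth.L21.PlaneCurve.isAffineOpen_chart i⟩,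
          Groth.L21.PlaneCurve.hypIdeal_chart]
        exact Ideal.mem_span_singleton_self _
      have : v.appLE (LefPen.chart N k i) ⊤ hwle =
          I.subschemeι.app (LefPen.chart N k i) ≫ u.appLE (I.subschemeι ⁻¹ᵁ LefPen.chart N k i) ⊤ hwle := by
        simp [v, Scheme.Hom.appLE]
      rw [this, CommRingCat.comp_apply, hk0, map_zero]
    have hzero' : (Spec.map θ ≫ Groth.L16.ProjSpace.chart N k i).appLE (LefPen.chart N k i) ⊤
        (by rw [hθ, hw]; exact hwle) (LefPen.dehom G i) = 0 := by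
      simp only [hθ, hw]; exact hzero
    rw [← Scheme.Hom.appLE_comp_appLE (Spec.map θ) (Groth.L16.ProjSpace.chart N k i) _ ⊤ ⊤ hW le_top,
      CommRingCat.comp_apply, Groth.L21.PlaneCurve.chart_appLE_dehom G i hW,
      show (Spec.map θ).appLE ⊤ ⊤ le_top = (Spec.map θ).appTop from (Scheme.Hom.app_eq_appLE _).symm,
      ← CommRingCat.comp_apply, ← Scheme.ΓSpecIso_inv_naturality, CommRingCat.comp_apply] at hzero'
    exact (ConcreteCategory.bijective_of_isIso (Scheme.ΓSpecIso (CommRingCat.of L)).inv).1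
      (hzero'.trans (map_zero _).symm)

/-- The index of a hypersurface is generated by degrees of zeros of the form. -/
theorem indexSubgroup_hyp_le {N d : ℕ} (G : LefPen.Form N k d) :
    Curv2.indexSubgroup ((LefPen.hypIdeal G).subschemeι ≫ CohB1.ProjSpace.toSpec N k) ≤ zeroDegrees G.1 := by
  haveI := Groth.L21.PlaneCurve.properProj k N
  haveI : IsProper (CohB1.ProjSpace.toSpec N k) := Groth.L21.PlaneCurve.properProj k N
  rw [Curv2.indexSubgroup, AddSubgroup.closure_le]
  rintro _ ⟨y, hy, rfl⟩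
  obtain ⟨L, _, _, hfin, u, hu, hdeg⟩ :=
    exists_point_degree k ((LefPen.hypIdeal G).subschemeι ≫ CohB1.ProjSpace.toSpec N k) hy
  refine AddSubgroup.subset_closure ⟨L, inferInstance, inferInstance, hfin, ?_, ?_⟩
  · exact congrArg Nat.cast hdeg.symm
  · exact exists_zero_of_point k G u hu

/-- The multiplier: the least positive multiple in `H` is a product of residue characteristic primes. -/
theorem exists_multiplier {κ : Type u} [Field κ] (H : AddSubgroup ℤ) (z : ℤ)
    (hloc : ∀ ℓ : ℕ, ℓ.Prime → (ℓ : κ) ≠ 0 → ∃ c : ℕ, ¬ ℓ ∣ c ∧ (c : ℤ) * z ∈ H) :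
    ∃ c : ℕ, 1 ≤ c ∧ (∀ q : ℕ, q.Prime → q ∣ c → (q : κ) = 0) ∧ (c : ℤ) * z ∈ H := by
  classical
  have hex : ∃ c : ℕ, 0 < c ∧ (c : ℤ) * z ∈ H := by
    by_cases h2 : ((2 : ℕ) : κ) = 0
    · obtain ⟨c, hc, hcm⟩ := hloc 3 Nat.prime_three (fun h3 => one_ne_zero (α := κ) (by
        push_cast at h2 h3
        linear_combination h3 - h2))
      exact ⟨c, Nat.pos_of_ne_zero fun h0 => hc (h0 ▸ dvd_zero 3), hcm⟩
    · obtain ⟨c, hc, hcm⟩ := hloc 2 Nat.prime_two h2
      exact ⟨c, Nat.pos_of_ne_zero fun h0 => hc (h0 ▸ dvd_zero 2), hcm⟩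
  refine ⟨Nat.find hex, (Nat.find_spec hex).1, fun q hq hqc => ?_, (Nat.find_spec hex).2⟩
  by_contra hqk
  obtain ⟨c, hc, hcm⟩ := hloc q hq hqk
  let c₀ := Nat.find hex
  have hg : ((c₀.gcd c : ℕ) : ℤ) * z ∈ H := by
    rw [Nat.gcd_eq_gcd_ab c₀ c, show ((c₀ : ℤ) * c₀.gcdA c + (c : ℤ) * c₀.gcdB c) * z =
      c₀.gcdA c • ((c₀ : ℤ) * z) + c₀.gcdB c • ((c : ℤ) * z) by simp only [smul_eq_mul]; ring]
    exact add_mem (AddSubgroup.zsmul_mem _ (Nat.find_spec hex).2 _) (AddSubgroup.zsmul_mem _ hcm _)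
  have hle : c₀ ≤ c₀.gcd c :=
    Nat.find_le ⟨Nat.gcd_pos_of_pos_left _ (Nat.find_spec hex).1, hg⟩
  have heq : c₀.gcd c = c₀ := le_antisymm (Nat.gcd_le_left _ (Nat.find_spec hex).1) hle
  have hdvd : c₀ ∣ c := by
    conv_lhs => rw [← heq]
    exact Nat.gcd_dvd_right c₀ c
  exact hc (hqc.trans hdvd)

variable (R : Type u) [CommRing R] [IsDomain R] [IsDiscreteValuationRing R] [HenselianLocalRing R]

/-- Up to residue characteristic primes, the index divides the gcd of the quotients `d / δ`. -/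
theorem gcd_mem_loc (hk : IsAlgClosed (IsLocalRing.ResidueField R))
    (halt : ∀ (ℓ : ℕ), ℓ.Prime → (ℓ : IsLocalRing.ResidueField R) ≠ 0 →
      ∀ (Z : Scheme.{u}) (q : Z ⟶ Spec (CommRingCat.of R)) [AlgebraicGeometry.IsIntegral Z] [IsProper q] [Flat q],
        ∃ (Y : Scheme.{u}) (h : Y ⟶ Z) (_ : AlgebraicGeometry.IsIntegral Y),
          (∀ y : Y, IsRegularLocalRing (Y.presheaf.stalk y)) ∧ IsProper h ∧ Surjective h ∧
          h.base (genericPoint Y) = genericPoint Z ∧
          h.residueDegree (genericPoint Y) ≠ 0 ∧ ¬ ℓ ∣ h.residueDegree (genericPoint Y))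
    {d N : ℕ} (hd : 1 ≤ d) (hN : 1 ≤ N) {G : LefPen.Form N (FractionRing R) d} (hG : G ≠ 0)
    {ℓ : ℕ} (hℓ : ℓ.Prime) (hℓk : (ℓ : IsLocalRing.ResidueField R) ≠ 0) :
    ((((Finset.Icc 1 N).filter (fun δ => δ ∣ d)).gcd (fun δ => d / δ) : ℕ) : ℤ) ∈
      Loc ℓ hℓ (zeroDegrees G.1) := by
  let K := FractionRing R
  let I := LefPen.hypIdeal G
  haveI : IsProper (CohB1.ProjSpace.toSpec N K) := Groth.L21.PlaneCurve.properProj K N
  letI : I.subscheme.Over (Spec (CommRingCat.of K)) := ⟨I.subschemeι ≫ CohB1.ProjSpace.toSpec N K⟩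
  haveI : IsProper (I.subscheme ↘ Spec (CommRingCat.of K)) :=
    inferInstanceAs (IsProper (I.subschemeι ≫ CohB1.ProjSpace.toSpec N K))
  haveI := Groth.L21.PlaneCurve.isLocallyNoetherian_sub I
  obtain ⟨e, he⟩ := exists_dim_bound K I.subscheme
  refine gcd_mem hd _ fun m hm => ?_
  obtain ⟨j, rfl⟩ : ∃ j, m = j + N := ⟨m - N, by omega⟩
  have hE := Groth.L16.ProperFinite.isCoh_of_isInvertible
    (Groth.L21.PlaneCurve.isInvertible_OC I ((j + d : ℕ) : ℤ))
  have hmem := holds hk halt hℓ hℓk (e + 1) I.subscheme _ hE (by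
    push_cast
    exact add_le_add ((topologicalKrullDim_subspace_le I.subscheme _).trans he) le_rfl)
  rw [euler_hyp K hN hG rfl j] at hmem
  rw [show j + N + d = j + d + N by omega]
  exact Loc.mono hℓ (indexSubgroup_hyp_le K G) hmem

end Groth.L05.EulerIndex
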