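import Groth.Agent.L05.EulerIndex.Basic
import Groth.Agent.L05.EulerIndex.Closure
import Groth.Agent.L22.Cyc.FiniteDeg
import Groth.Agent.S17784

/-!
# The Euler characteristic and the index, away from the residue characteristic
-/

set_option autoImplicit false
set_option linter.style.haveILetI false
set_option linter.unusedSectionVars false
set_option backward.isDefEq.respectTransparency false

universe u

open CategoryTheory CategoryTheory.Limits AlgebraicGeometry TopologicalSpace

noncomputable section

namespace Groth.L05.EulerIndex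

open Groth.L03.Euler
open Groth.L22.Cyc (residueDegree_comp residueDegree_congr residueDegree_eq_one)
open Groth.L05.MinModel (gen isOpenImmersion_gen)

theorem residueDegree_preimmersion {X Y : Scheme.{u}} (f : X ⟶ Y) [IsPreimmersion f] (x : X) :
    f.residueDegree x = 1 := by
  refine residueDegree_eq_one f x ⟨(f.residueFieldMap x).hom.injective, fun w => ?_⟩
  obtain ⟨v, rfl⟩ := X.residue_surjective x w
  obtain ⟨t, rfl⟩ := f.stalkMap_surjective x v
  exact ⟨Y.residue (f x) t, congrArg (fun φ => φ.hom t) (Scheme.residue_residueFieldMap (f := f) x)⟩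

/-- An integral proper scheme over a field is birational to an integral projective one. -/
theorem exists_integral_chow (k : Type u) [Field k] {Z : Scheme.{u}} [IsIntegral Z]
    (f : Z ⟶ Spec (CommRingCat.of k)) [IsProper f] :
    ∃ (W : Scheme.{u}) (_ : IsIntegral W) (π : W ⟶ Z) (_ : IsProper π) (N : ℕ)
      (j : W ⟶ CohB1.ProjSpaceOver N (Spec (CommRingCat.of k))) (_ : IsClosedImmersion j),
      j ≫ CohB1.ProjSpaceOver.toBase N _ = π ≫ f ∧ π (genericPoint W) = genericPoint Z ∧
      π.residueDegree (genericPoint W) = 1 := by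
  haveI : IsLocallyNoetherian Z := LocallyOfFiniteType.isLocallyNoetherian f
  obtain ⟨N, W, π, j, hj, hjπ, hπ, -, U, hU, hUiso⟩ := Groth.L16.Chow.exists_chow_dense f
  haveI := hj; haveI := hπ; haveI := hUiso
  haveI : IsProper (π ≫ f) := inferInstance
  haveI : IsProper j := by
    haveI : IsProper (j ≫ CohB1.ProjSpaceOver.toBase N (Spec (CommRingCat.of k))) := by rw [hjπ]; infer_instance
    haveI : IsSeparated (CohB1.ProjSpaceOver.toBase N (Spec (CommRingCat.of k))) := by
      show IsSeparated (Limits.pullback.snd _ _)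
      infer_instance
    exact IsProper.of_comp j (CohB1.ProjSpaceOver.toBase N (Spec (CommRingCat.of k)))
  haveI : IsClosedImmersion j := IsClosedImmersion.of_isPreimmersion j j.isClosedMap.isClosed_range
  have hη : genericPoint Z ∈ U := ((genericPoint_spec Z).mem_open_set_iff U.2).2 (by
    obtain ⟨y, hy⟩ := hU.nonempty
    exact ⟨y, trivial, hy⟩)
  let x : (π ⁻¹ᵁ U).toScheme := inv (π ∣_ U) ⟨genericPoint Z, hη⟩
  have hx : π x.1 = genericPoint Z := by
    have h1 : (π ∣_ U) x = ⟨genericPoint Z, hη⟩ := by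
      show (inv (π ∣_ U) ≫ (π ∣_ U)) _ = _
      rw [IsIso.inv_hom_id]; rfl
    have h2 := congrArg U.ι h1
    rw [← Scheme.Hom.comp_apply, morphismRestrict_ι, Scheme.Hom.comp_apply] at h2
    exact h2
  haveI : IsLocallyNoetherian W := LocallyOfFiniteType.isLocallyNoetherian π
  obtain ⟨W₀, i, hi, hW₀, hgen, -⟩ := Groth.L16.CohClosedPush.exists_integral x.1
  haveI := hi; haveI := hW₀
  refine ⟨W₀, hW₀, i ≫ π, inferInstance, N, i ≫ j, inferInstance, ?_, ?_, ?_⟩
  · rw [Category.assoc, Category.assoc, hjπ]
  · rw [Scheme.Hom.comp_apply, hgen, hx]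
  · rw [residueDegree_comp, residueDegree_preimmersion i, mul_one, hgen]
    have h := residueDegree_congr ((π ∣_ U) ≫ U.ι) (morphismRestrict_ι π U) x
    rw [residueDegree_comp, residueDegree_comp, residueDegree_preimmersion U.ι,
      residueDegree_preimmersion (π ⁻¹ᵁ U).ι, residueDegree_preimmersion (π ∣_ U), mul_one, mul_one] at h
    exact h.symm

section Step

variable (R : Type u) [CommRing R] [IsDomain R] [IsDiscreteValuationRing R] [HenselianLocalRing R]

/-- The conclusion for sheaves with support of dimension `< d`. -/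
def Holds (ℓ : ℕ) (hℓ : ℓ.Prime) (d : ℕ) : Prop :=
  ∀ (X : Scheme.{u}) [X.Over (Spec (CommRingCat.of (FractionRing R)))]
    [IsProper (X ↘ Spec (CommRingCat.of (FractionRing R)))] (E : X.Modules), Coh.IsCoh E →
    topologicalKrullDim (CohB1.support E) + 1 ≤ d →
    Curv2.euler (FractionRing R) X E ∈
      Loc ℓ hℓ (Curv2.indexSubgroup (X ↘ Spec (CommRingCat.of (FractionRing R))))

variable {R}

theorem small_of_holds {ℓ : ℕ} {hℓ : ℓ.Prime} {d : ℕ} (IH : Holds R ℓ hℓ d) {Y Z : Scheme.{u}}
    [Y.Over (Spec (CommRingCat.of (FractionRing R)))] [IsProper (Y ↘ Spec (CommRingCat.of (FractionRing R)))]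
    [IsIntegral Y] [Z.Over (Spec (CommRingCat.of (FractionRing R)))]
    [IsProper (Z ↘ Spec (CommRingCat.of (FractionRing R)))] (h : Y ⟶ Z)
    (hh : h ≫ (Z ↘ Spec (CommRingCat.of (FractionRing R))) = Y ↘ Spec (CommRingCat.of (FractionRing R)))
    (hdim : topologicalKrullDim Y ≤ d) :
    Small (FractionRing R) (Z := Y)
      (Loc ℓ hℓ (Curv2.indexSubgroup (Z ↘ Spec (CommRingCat.of (FractionRing R))))) := by
  intro F hF hne
  refine Loc.mono hℓ (indexSubgroup_le _ _ _ h hh) (IH Y F hF ?_)
  exact (topologicalKrullDim_add_one_le (Groth.L16.CohSupport.isClosed_support F hF.2)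
    (IrreducibleSpace.isIrreducible_univ Y) (Set.subset_univ _) hne).trans
    ((topologicalKrullDim_subspace_le Y _).trans hdim)

variable (hk : IsAlgClosed (IsLocalRing.ResidueField R))
    (halt : ∀ (ℓ : ℕ), ℓ.Prime → (ℓ : IsLocalRing.ResidueField R) ≠ 0 →
      ∀ (Z : Scheme.{u}) (q : Z ⟶ Spec (CommRingCat.of R)) [AlgebraicGeometry.IsIntegral Z] [IsProper q] [Flat q],
        ∃ (Y : Scheme.{u}) (h : Y ⟶ Z) (_ : AlgebraicGeometry.IsIntegral Y),
          (∀ y : Y, IsRegularLocalRing (Y.presheaf.stalk y)) ∧ IsProper h ∧ Surjective h ∧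
          h.base (genericPoint Y) = genericPoint Z ∧
          h.residueDegree (genericPoint Y) ≠ 0 ∧ ¬ ℓ ∣ h.residueDegree (genericPoint Y))

include hk halt in
theorem euler_structure_mem {ℓ : ℕ} (hℓ : ℓ.Prime) (hℓk : (ℓ : IsLocalRing.ResidueField R) ≠ 0) {d : ℕ}
    (IH : Holds R ℓ hℓ d) {Z : Scheme.{u}} [Z.Over (Spec (CommRingCat.of (FractionRing R)))]
    [IsProper (Z ↘ Spec (CommRingCat.of (FractionRing R)))] [IsIntegral Z]
    (hdim : topologicalKrullDim Z ≤ d) :
    Curv2.euler (FractionRing R) Z (Coh.structureModule Z) ∈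
      Loc ℓ hℓ (Curv2.indexSubgroup (Z ↘ Spec (CommRingCat.of (FractionRing R)))) := by
  let K := FractionRing R
  let sZ := Z ↘ Spec (CommRingCat.of K)
  haveI := isOpenImmersion_gen (R := R)
  -- projective modification and its closure
  obtain ⟨W, hWi, π, hπp, N, j, hj, hjπ, hπg, hπd⟩ := exists_integral_chow K sZ
  haveI := hWi; haveI := hπp; haveI := hj
  haveI : Flat (π ≫ sZ) := inferInstance
  obtain ⟨𝒵, q, g, h𝒵, hqp, hqf, hgpb⟩ := exists_flat_closure (R := R) (π ≫ sZ) j hjπ
  haveI := h𝒵; haveI := hqp; haveI := hqf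
  haveI : IsOpenImmersion g := MorphismProperty.of_isPullback (P := @IsOpenImmersion) hgpb.flip ‹_›
  -- alteration
  obtain ⟨Y, h, hYi, hYreg, hhp, hhs, hhg, hhd, hhl⟩ := halt ℓ hℓ hℓk 𝒵 q
  haveI := hYi; haveI := hhp
  let qY : Y ⟶ Spec (CommRingCat.of R) := h ≫ q
  haveI : IsProper qY := inferInstance
  let T := pullback qY (gen R)
  let t : T ⟶ Y := pullback.fst qY (gen R)
  let fT : T ⟶ Spec (CommRingCat.of K) := pullback.snd qY (gen R)
  haveI : IsOpenImmersion t := MorphismProperty.pullback_fst _ _ ‹_›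
  let a : T ⟶ W := hgpb.lift (t ≫ h) fT (by rw [Category.assoc]; exact pullback.condition)
  have ha : a ≫ g = t ≫ h := hgpb.lift_fst _ _ _
  have haf : a ≫ π ≫ sZ = fT := hgpb.lift_snd _ _ _
  have hgW : g (genericPoint W) = genericPoint 𝒵 := genericPoint_eq_of_isOpenImmersion g
  have hqg : q (genericPoint 𝒵) ∈ Set.range (gen R) := by
    rw [← hgW, ← Scheme.Hom.comp_apply, hgpb.w, Scheme.Hom.comp_apply]
    exact ⟨_, rfl⟩
  obtain ⟨s, hs⟩ := hqg
  obtain ⟨τ, hτ, -⟩ := Scheme.exists_preimage_of_isPullback (IsPullback.of_hasPullback qY (gen R))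
    (genericPoint Y) s (by rw [hs, Scheme.Hom.comp_apply, hhg])
  haveI : Nonempty T := ⟨τ⟩
  haveI : IsIntegral T := isIntegral_of_isOpenImmersion t
  have htg : t (genericPoint T) = genericPoint Y := genericPoint_eq_of_isOpenImmersion t
  haveI : IsProper fT := MorphismProperty.pullback_snd (P := @IsProper) _ _ inferInstance
  letI : T.Over (Spec (CommRingCat.of K)) := ⟨fT⟩
  haveI : IsProper (T ↘ Spec (CommRingCat.of K)) := ‹IsProper fT›
  let b : T ⟶ Z := a ≫ π
  have hb : b ≫ sZ = fT := by rw [Category.assoc]; exact haf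
  haveI : IsProper b := by
    haveI : IsProper (b ≫ sZ) := by rw [hb]; infer_instance
    exact IsProper.of_comp b sZ
  have hag : a (genericPoint T) = genericPoint W := by
    apply g.isOpenEmbedding.injective
    rw [hgW, ← Scheme.Hom.comp_apply, ha, Scheme.Hom.comp_apply, htg, hhg]
  have hbg : b (genericPoint T) = genericPoint Z := by
    rw [Scheme.Hom.comp_apply, hag, hπg]
  have hbd : b.residueDegree (genericPoint T) = h.residueDegree (genericPoint Y) := by
    have h1 := residueDegree_congr (a ≫ g) ha (genericPoint T)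
    rw [residueDegree_comp, residueDegree_comp, residueDegree_preimmersion g, residueDegree_preimmersion t,
      one_mul, mul_one, htg] at h1
    rw [residueDegree_comp, hag, hπd, one_mul, h1]
  have hdimT : topologicalKrullDim T ≤ d := by
    obtain ⟨x₁, x₂, hx₁, hx₂, hx₁₂⟩ := Groth.L22.FibreDim.exists_dim_closure_add K b hb (genericPoint T)
    rw [hbg, show closure ({genericPoint Z} : Set Z) = Set.univ from genericPoint_spec Z] at hx₁
    rw [show closure ({genericPoint T} : Set T) = Set.univ from genericPoint_spec T] at hx₂ hx₁₂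
    have hsing : (Set.univ : Set T) ∩ b ⁻¹' {b (genericPoint T)} = {genericPoint T} := by
      refine Set.Subset.antisymm (fun x hx => ?_) (Set.singleton_subset_iff.2 ⟨trivial, rfl⟩)
      refine Groth.L19.GenericFinite.eq_genericPoint_of_finite b hbg ?_ (hx.2.trans hbg)
      letI := (b.residueFieldMap (genericPoint T)).hom.toAlgebra
      exact Module.finite_of_finrank_pos (Nat.pos_of_ne_zero (hbd.trans_ne hhd))
    rw [hsing] at hx₂
    have h0 : x₂ = 0 := by
      haveI : DiscreteTopology ({genericPoint T} : Set T) := inferInstance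
      have hle : topologicalKrullDim ({genericPoint T} : Set T) ≤ 0 :=
        topologicalKrullDim_zero_of_discreteTopology _
      rw [hx₂] at hle
      exact le_antisymm (by exact_mod_cast hle) (Nat.zero_le _)
    rw [h0, add_zero] at hx₁₂
    rw [← (Homeomorph.Set.univ T).isHomeomorph.topologicalKrullDim_eq, hx₁₂, ← hx₁,
      (Homeomorph.Set.univ Z).isHomeomorph.topologicalKrullDim_eq]
    exact hdim
  -- the regular model
  haveI : Flat qY := by
    haveI : IsSchemeTheoreticallyDominant t := by
      haveI : IsDominant t := ⟨by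
        rw [denseRange_iff_closure_range]
        exact Set.eq_univ_of_univ_subset ((genericPoint_spec Y).symm.subset.trans
          (closure_mono (Set.singleton_subset_iff.2 ⟨genericPoint T, htg⟩)))⟩
      exact IsSchemeTheoreticallyDominant.of_isDominant t
    haveI : IsLocallyNoetherian Y := LocallyOfFiniteType.isLocallyNoetherian qY
    haveI : QuasiCompact t := inferInstance
    haveI : Flat (t ≫ qY) := by
      rw [show t ≫ qY = fT ≫ gen R from pullback.condition]; infer_instance
    exact Groth.L02.STD.flat_of_dominant R t qY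
  have hTreg : Models.IsRegularScheme T := fun x => by
    haveI := hYreg (t x)
    exact IsRegularLocalRing.of_ringEquiv (asIso (t.stalkMap x)).commRingCatIsoToRingEquiv
  have hmodel : Models.IsRegularProperModel R Y qY T (T ↘ Spec (CommRingCat.of K)) :=
    ⟨⟨inferInstance, inferInstance, inferInstance, t, IsPullback.of_hasPullback qY (gen R)⟩, inferInstance, hYreg⟩
  have hT : Curv2.euler K T (Coh.structureModule T) ∈ Loc ℓ hℓ (Curv2.indexSubgroup sZ) :=
    Loc.mono hℓ (indexSubgroup_le K _ sZ b hb)
      (Loc.le hℓ _ (Groth.Agent.S17784.result R hk T hTreg Y qY hmodel))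
  -- comparison through a projective modification of the generic fibre
  obtain ⟨V, hVi, ρ, hρp, M, i, hi, hiρ, hρg, hρd⟩ := exists_integral_chow K fT
  haveI := hVi; haveI := hρp; haveI := hi
  letI : V.Over (Spec (CommRingCat.of K)) := ⟨ρ ≫ fT⟩
  haveI : IsProper (V ↘ Spec (CommRingCat.of K)) := inferInstanceAs (IsProper (ρ ≫ fT))
  let qV : V ⟶ CohB1.ProjSpace M K := i ≫ (Groth.L16.ProjSpace.isoOver M K).inv
  haveI : IsAffineHom qV := inferInstanceAs (IsAffineHom (i ≫ _))
  have e₁ := euler_cover_mem K (small_of_holds IH b hb hdimT) ρ rfl hρg (by rw [hρd]; exact one_ne_zero) qV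
  have hcomp : (ρ ≫ b).residueDegree (genericPoint V) = h.residueDegree (genericPoint Y) := by
    rw [residueDegree_comp, hρg, hρd, mul_one, hbd]
  have e₂ := euler_cover_mem K (small_of_holds IH (𝟙 Z) (Category.id_comp _) hdim) (ρ ≫ b)
    (by rw [Category.assoc, hb]; rfl) (by rw [Scheme.Hom.comp_apply, hρg, hbg]) (hcomp.trans_ne hhd) qV
  rw [hρd, Nat.cast_one, one_mul] at e₁
  rw [hcomp] at e₂
  refine Loc.mem_of_mul_mem hℓ hhl ?_
  have h3 := add_mem (sub_mem e₁ e₂) hT
  convert h3 using 1
  ring

include hk halt in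
theorem holds {ℓ : ℕ} (hℓ : ℓ.Prime) (hℓk : (ℓ : IsLocalRing.ResidueField R) ≠ 0) : ∀ d, Holds R ℓ hℓ d := by
  intro d
  induction d with
  | zero =>
    intro X _ _ E hE hdim
    rcases (CohB1.support E).eq_empty_or_nonempty with h | h
    · rw [euler_of_isZero (k := FractionRing R) ((Groth.L21.Mod.isZero_iff_support_eq_empty E).2 h)]
      exact zero_mem _
    · exfalso
      have h0 : (0 : WithBot ℕ∞) + 1 ≤ (0 : ℕ) :=
        (add_le_add_left (zero_le_topologicalKrullDim h) 1).trans hdim
      norm_num at h0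
  | succ d ih =>
    intro X _ _ E hE hdim
    let K := FractionRing R
    haveI := Groth.L21.RR.isNoetherian_of_proper (X := X) K
    haveI : X.IsSeparated := ⟨by rw [← terminal.comp_from (X ↘ Spec (CommRingCat.of K))]; infer_instance⟩
    have hdim' : topologicalKrullDim (CohB1.support E) ≤ d := by
      generalize topologicalKrullDim (CohB1.support E) = t at hdim
      induction t using WithBot.recBotCoe with
      | bot => exact bot_le
      | coe t =>
        change ((t + 1 : ℕ∞) : WithBot ℕ∞) ≤ (((d + 1 : ℕ) : ℕ∞) : WithBot ℕ∞) at hdim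
        rw [WithBot.coe_le_coe, Nat.cast_add, Nat.cast_one,
          ENat.add_le_add_iff_right (by simp)] at hdim
        exact WithBot.coe_le_coe.2 hdim
    refine Groth.L16.Devissage.devissage (fun M => Curv2.euler K X M ∈
        Loc ℓ hℓ (Curv2.indexSubgroup (X ↘ Spec (CommRingCat.of K))))
      (Groth.L16.CohSupport.isClosed_support E hE.2) (fun M M' ⟨e⟩ h => euler_iso (k := K) e ▸ h)
      (fun M hM => by rw [euler_of_isZero (k := K) hM]; exact zero_mem _) ?_ ?_ hE subset_rfl
    · intro S hS h₁ h₂ h₃ _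
      have e := euler_add (k := K) hS h₁ h₂ h₃
      refine ⟨fun a b => ?_, fun a c => ?_, fun b c => ?_⟩ <;> beta_reduce at *
      · convert sub_mem b a using 1; rw [e]; ring
      · rw [e]; exact add_mem a c
      · convert sub_mem b c using 1; rw [e]; ring
    · intro y hy
      obtain ⟨Z, i, hi, hZ, hgen, hrange⟩ := Groth.L16.CohClosedPush.exists_integral y
      haveI := hi; haveI := hZ
      letI : Z.Over (Spec (CommRingCat.of K)) := ⟨i ≫ (X ↘ Spec (CommRingCat.of K))⟩
      haveI : IsProper (Z ↘ Spec (CommRingCat.of K)) :=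
        inferInstanceAs (IsProper (i ≫ (X ↘ Spec (CommRingCat.of K))))
      haveI : IsLocallyNoetherian Z := LocallyOfFiniteType.isLocallyNoetherian i
      refine ⟨(Coh.push i).obj (Coh.structureModule Z),
        Groth.L16.CohClosedPush.isCoh_push i Groth.L16.CohClosedPush.isCoh_structure, ?_,
        (Groth.L16.CohClosedPush.support_push_subset i _).trans hrange.le,
        hgen ▸ Groth.L16.CohClosedPush.len_push_structure i⟩
      rw [euler_push i _ Groth.L16.CohClosedPush.isCoh_structure.1 rfl]
      refine Loc.mono hℓ (indexSubgroup_le K _ _ i rfl) (euler_structure_mem hk halt hℓ hℓk ih ?_)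
      have hsub : Set.range i ⊆ CohB1.support E := hrange.le.trans (closure_minimal
        (Set.singleton_subset_iff.2 hy) (Groth.L16.CohSupport.isClosed_support E hE.2))
      refine le_trans (le_of_eq ?_) ((topologicalKrullDim_set_mono hsub).trans hdim')
      exact i.isClosedEmbedding.isEmbedding.toHomeomorph.isHomeomorph.topologicalKrullDim_eq

end Step

end Groth.L05.EulerIndex
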